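import Groth.Agent.Lib.DMod.Resolve
import Mathlib.RingTheory.Finiteness.Basic
import Mathlib.Algebra.Category.ModuleCat.ChangeOfRings
import Mathlib.LinearAlgebra.FreeModule.Finite.Basic

/-!
Resolutions by finite free modules over an algebra which is finite free over a commutative ring.
-/

set_option autoImplicit false
set_option linter.style.haveILetI false
set_option maxHeartbeats 1600000

universe u

open CategoryTheory CategoryTheory.Limits CategoryTheory.Pretriangulated CategoryTheory.Triangulated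
open ComplexShape

attribute [local instance] HasDerivedCategory.standard

namespace Groth.Agent.DModR9

open DMod (homologyMap_bijective_of)

variable {R : Type u} [Ring R]

section Construction

variable (K : ChainComplex (ModuleCat.{u} R) ℕ)

open Classical in
/-- Chosen generators modulo `B`, when they exist. -/
noncomputable def gens {M : Type u} [AddCommGroup M] [Module R M] (P B : Submodule R M) :
    Finset M :=
  if h : ∃ S : Finset M, (S : Set M) ⊆ P ∧ P ≤ Submodule.span R S ⊔ B then h.choose else ∅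

theorem gens_subset {M : Type u} [AddCommGroup M] [Module R M] (P B : Submodule R M) :
    (gens P B : Set M) ⊆ P := by
  unfold gens
  split_ifs with h
  · exact h.choose_spec.1
  · simp

theorem gens_spec {M : Type u} [AddCommGroup M] [Module R M] (P B : Submodule R M)
    (h : ∃ S : Finset M, (S : Set M) ⊆ P ∧ P ≤ Submodule.span R S ⊔ B) :
    P ≤ Submodule.span R (gens P B : Set M) ⊔ B := by
  unfold gens
  rw [dif_pos h]
  exact h.choose_spec.2

/-- The map from the free module on a finite set. -/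
noncomputable def genMap {M : Type u} [AddCommGroup M] [Module R M] (S : Finset M) :
    (↥S →₀ R) →ₗ[R] M := Finsupp.linearCombination R (Subtype.val : ↥S → M)

theorem range_genMap {M : Type u} [AddCommGroup M] [Module R M] (S : Finset M) :
    LinearMap.range (genMap (R := R) S) = Submodule.span R (S : Set M) := by
  rw [genMap, Finsupp.range_linearCombination]
  congr 1
  exact Subtype.range_coe

/-- One stage of the resolution. -/
structure Stg (k : ℕ) where
  /-- the term -/
  F : ModuleCat.{u} R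
  /-- the map to the complex -/
  f : F →ₗ[R] K.X k
  /-- the cycles -/
  Z : Submodule R F
  free : Module.Finite R F ∧ Module.Free R F

/-- Boundaries in degree `0`. -/
abbrev B₀ : Submodule R (K.X 0) := LinearMap.range (K.d 1 0).hom

/-- The first stage. -/
noncomputable def stg0 : Stg K 0 where
  F := ModuleCat.of R (↥(gens ⊤ (B₀ K)) →₀ R)
  f := genMap (gens ⊤ (B₀ K))
  Z := ⊤
  free := ⟨inferInstanceAs (Module.Finite R (_ →₀ R)), inferInstanceAs (Module.Free R (_ →₀ R))⟩

variable {K} in
/-- The pairs to be generated. -/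
noncomputable def Stg.P {k : ℕ} (s : Stg K k) : Submodule R (s.F × K.X (k + 1)) :=
  s.Z.prod ⊤ ⊓ LinearMap.ker
    (s.f ∘ₗ LinearMap.fst R s.F (K.X (k + 1)) - (K.d (k + 1) k).hom ∘ₗ LinearMap.snd R s.F (K.X (k + 1)))

variable {K} in
/-- The boundaries among the pairs. -/
noncomputable def Stg.B {k : ℕ} (s : Stg K k) : Submodule R (s.F × K.X (k + 1)) :=
  LinearMap.range (LinearMap.inr R s.F (K.X (k + 1)) ∘ₗ (K.d (k + 2) (k + 1)).hom)

variable {K} in
theorem Stg.mem_P {k : ℕ} (s : Stg K k) {p : s.F × K.X (k + 1)} :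
    p ∈ s.P ↔ p.1 ∈ s.Z ∧ s.f p.1 = K.d (k + 1) k p.2 := by
  simp [Stg.P, sub_eq_zero]

variable {K} in
/-- The generating map of the next stage. -/
noncomputable def Stg.g {k : ℕ} (s : Stg K k) : (↥(gens s.P s.B) →₀ R) →ₗ[R] s.F × K.X (k + 1) :=
  genMap _

variable {K} in
theorem Stg.g_mem {k : ℕ} (s : Stg K k) (a : ↥(gens s.P s.B) →₀ R) : s.g a ∈ s.P :=
  have h : Submodule.span R (gens s.P s.B : Set (s.F × K.X (k + 1))) ≤ s.P :=
    Submodule.span_le.2 (gens_subset s.P s.B)
  h (range_genMap (R := R) (gens s.P s.B) ▸ LinearMap.mem_range_self s.g a)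

variable {K} in
/-- The next stage. -/
noncomputable def Stg.next {k : ℕ} (s : Stg K k) : Stg K (k + 1) where
  F := ModuleCat.of R (↥(gens s.P s.B) →₀ R)
  f := LinearMap.snd R _ _ ∘ₗ s.g
  Z := LinearMap.ker (LinearMap.fst R _ _ ∘ₗ s.g)
  free := ⟨inferInstanceAs (Module.Finite R (_ →₀ R)), inferInstanceAs (Module.Free R (_ →₀ R))⟩

/-- The stages. -/
noncomputable def stg : (k : ℕ) → Stg K k
  | 0 => stg0 K
  | k + 1 => (stg k).next

/-- The differential. -/
noncomputable def δ (k : ℕ) : (stg K (k + 1)).F ⟶ (stg K k).F :=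
  ModuleCat.ofHom (LinearMap.fst R _ _ ∘ₗ (stg K k).g)

theorem mem_Z_succ {k : ℕ} (e : (stg K (k + 1)).F) : e ∈ (stg K (k + 1)).Z ↔ δ K k e = 0 :=
  Iff.rfl

theorem δ_δ (k : ℕ) : δ K (k + 1) ≫ δ K k = 0 := by
  ext e
  exact ((stg K (k + 1)).mem_P.1 ((stg K (k + 1)).g_mem e)).1

/-- The resolution. -/
noncomputable def res : ChainComplex (ModuleCat.{u} R) ℕ :=
  ChainComplex.of (fun k => (stg K k).F) (δ K) (δ_δ K)

theorem res_d (k : ℕ) : (res K).d (k + 1) k = δ K k := ChainComplex.of_d (fun k => (stg K k).F) (δ K) k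

/-- The comparison map. -/
noncomputable def resφ : res K ⟶ K where
  f k := ModuleCat.ofHom (stg K k).f
  comm' i j hij := by
    obtain rfl : j + 1 = i := hij
    rw [res_d]
    ext e
    exact ((stg K j).mem_P.1 ((stg K j).g_mem e)).2.symm

/-- Generation holds at stage `k`. -/
def Good : ℕ → Prop
  | 0 => ∃ S : Finset (K.X 0), (S : Set (K.X 0)) ⊆ (⊤ : Submodule R (K.X 0)) ∧
      ⊤ ≤ Submodule.span R (S : Set (K.X 0)) ⊔ B₀ K
  | k + 1 => ∃ S : Finset ((stg K k).F × K.X (k + 1)), (S : Set ((stg K k).F × K.X (k + 1))) ⊆ ((stg K k).P : Set _) ∧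
      (stg K k).P ≤ Submodule.span R (S : Set ((stg K k).F × K.X (k + 1))) ⊔ (stg K k).B

theorem surj_zero (h : Good K 0) (x : K.X 0) :
    ∃ (w : (stg K 0).F) (y : K.X 1), (stg K 0).f w + K.d 1 0 y = x := by
  have hx := gens_spec _ _ h (Submodule.mem_top (x := x))
  rw [← range_genMap, Submodule.mem_sup] at hx
  obtain ⟨_, ⟨w, rfl⟩, _, ⟨y, rfl⟩, e⟩ := hx
  exact ⟨w, y, e⟩

theorem surj_succ (k : ℕ) (h : Good K (k + 1)) (x : K.X (k + 1)) (hx : K.d (k + 1) k x = 0) :
    ∃ (w : (stg K (k + 1)).F) (y : K.X (k + 2)), δ K k w = 0 ∧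
      (stg K (k + 1)).f w + K.d (k + 2) (k + 1) y = x := by
  have hP : ((0 : (stg K k).F), x) ∈ (stg K k).P :=
    (stg K k).mem_P.2 ⟨zero_mem _, by rw [map_zero]; exact hx.symm⟩
  have hx' := gens_spec _ _ h hP
  rw [← range_genMap, Submodule.mem_sup] at hx'
  obtain ⟨_, ⟨w, rfl⟩, _, ⟨y, rfl⟩, e⟩ := hx'
  have e1 := congrArg Prod.fst e
  have e2 := congrArg Prod.snd e
  simp only [LinearMap.comp_apply, LinearMap.inr_apply, Prod.fst_add, Prod.snd_add, add_zero] at e1 e2
  exact ⟨w, y, e1, e2⟩

theorem inj_stage (k : ℕ) (h : Good K (k + 1)) (w : (stg K k).F) (hw : w ∈ (stg K k).Z)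
    (x : K.X (k + 1)) (hx : (stg K k).f w = K.d (k + 1) k x) :
    ∃ v : (stg K (k + 1)).F, δ K k v = w := by
  have hP : (w, x) ∈ (stg K k).P := (stg K k).mem_P.2 ⟨hw, hx⟩
  have hx' := gens_spec _ _ h hP
  rw [← range_genMap, Submodule.mem_sup] at hx'
  obtain ⟨_, ⟨v, rfl⟩, _, ⟨y, rfl⟩, e⟩ := hx'
  have e1 := congrArg Prod.fst e
  simp only [LinearMap.comp_apply, LinearMap.inr_apply, Prod.fst_add, add_zero] at e1
  exact ⟨v, e1⟩

theorem quasiIso_resφ (h : ∀ k, Good K k) : QuasiIso (resφ K) := by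
  refine ⟨fun j => ?_⟩
  rw [quasiIsoAt_iff_isIso_homologyMap, ConcreteCategory.isIso_iff_bijective]
  rcases j with _ | k
  · refine homologyMap_bijective_of _ (i := 1) (k := 0) (by simp) (by simp) (fun x _ => ?_) ?_
    · obtain ⟨w, y, e⟩ := surj_zero K (h 0) x
      refine ⟨w, y, ?_, e⟩
      rw [(res K).shape 0 0 (by simp)]; rfl
    · intro w y _ hy
      obtain ⟨v, hv⟩ := inj_stage K 0 (h 1) w trivial y hy.symm
      exact ⟨v, (congrArg (fun f : (res K).X 1 ⟶ (res K).X 0 => f v) (res_d K 0)).trans hv⟩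
  · refine homologyMap_bijective_of _ (i := k + 2) (k := k) (by simp) (by simp) (fun x hx => ?_) ?_
    · obtain ⟨w, y, hw, e⟩ := surj_succ K k (h (k + 1)) x hx
      exact ⟨w, y, (congrArg (fun f : (res K).X (k + 1) ⟶ (res K).X k => f w) (res_d K k)).trans hw, e⟩
    · intro w y hw hy
      rw [res_d] at hw
      obtain ⟨v, hv⟩ := inj_stage K (k + 1) (h (k + 2)) w hw y hy.symm
      exact ⟨v, (congrArg (fun f : (res K).X (k + 2) ⟶ (res K).X (k + 1) => f v) (res_d K (k + 1))).trans hv⟩

end Construction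

/-- A cochain complex concentrated in degrees `≤ 0` is the extension of its restriction. -/
theorem isIso_liftExtend_id (L : CochainComplex (ModuleCat.{u} R) ℤ) [L.IsStrictlyLE 0] :
    ∃ (ι : L ⟶ (L.restriction embeddingDownNat).extend embeddingDownNat), IsIso ι ∧
      ∀ k : ℕ, ι.f (-(k : ℤ)) =
        ((L.restriction embeddingDownNat).extendXIso embeddingDownNat
          (rfl : embeddingDownNat.f k = -(k : ℤ))).inv := by
  have hl : embeddingDownNat.HasLift (𝟙 (L.restriction embeddingDownNat)) := by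
    intro j hj
    exfalso
    apply hj.2 (j + 1)
    simp
  refine ⟨embeddingDownNat.liftExtend _ hl, ?_, fun k => ?_⟩
  · have : ∀ i, IsIso ((embeddingDownNat.liftExtend _ hl).f i) := by
      intro i
      by_cases hi : i ≤ 0
      · rw [ComplexShape.Embedding.isIso_liftExtend_f_iff _ _ hl (i := (-i).toNat)
          (show embeddingDownNat.f (-i).toNat = i by simp; omega)]
        exact inferInstanceAs (IsIso (𝟙 ((L.restriction embeddingDownNat).X (-i).toNat)))
      · refine ⟨0, (L.isZero_of_isStrictlyLE 0 i (by omega)).eq_of_src _ _,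
          (HomologicalComplex.isZero_extend_X _ _ _ fun k => ?_).eq_of_src _ _⟩
        simp; omega
    exact HomologicalComplex.Hom.isIso_of_components _
  · refine (ComplexShape.Embedding.liftExtend_f _ _ hl
      (show embeddingDownNat.f k = -(k : ℤ) from rfl)).trans ?_
    simp [HomologicalComplex.restrictionXIso]
    rfl

end Groth.Agent.DModR9
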