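import Groth.Agent.Lib.DModR9.Construction
import Mathlib.RingTheory.Finiteness.Basic
import Mathlib.LinearAlgebra.Basis.SMul

/-!
Pseudo-coherence after restriction of scalars to the base gives resolutions by finite free modules.
-/

set_option autoImplicit false
set_option linter.style.haveILetI false
set_option linter.unusedSectionVars false
set_option backward.isDefEq.respectTransparency false
set_option maxHeartbeats 1000000

universe u

open CategoryTheory CategoryTheory.Limits CategoryTheory.Pretriangulated CategoryTheory.Triangulated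
open ComplexShape

attribute [local instance] HasDerivedCategory.standard

namespace Groth.Agent.DModR9

open DMod (subι geSub geSub_stable sigmaGE sigmaGEXEquiv modClass_finiteFree sigmaGE_mem finite_top
  homologyπ_surjective homologyπ_eq_zero_iff exists_cycle homologyMap_surjective homologyMap_injective
  exists_cone_triangle cone_isLE_iff HH_bijective_iff pc_triangle₃ pc_toD exists_finset_cone isZero_iff_subsingleton HH)

variable (A : Type u) [CommRing A] {R : Type u} [Ring R] [Algebra A R]

/-- Restriction of scalars to the base. -/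
noncomputable abbrev rs : ModuleCat.{u} R ⥤ ModuleCat.{u} A := ModuleCat.restrictScalars.{u} (algebraMap A R)

/-- Restriction of scalars on complexes. -/
noncomputable abbrev resA (L : CochainComplex (ModuleCat.{u} R) ℤ) : DRing.Cx A :=
  ((rs A).mapHomologicalComplex (ComplexShape.up ℤ)).obj L

variable {A} in
/-- A submodule over the algebra, seen over the base, inside a product. -/
def prodRes {M N : ModuleCat.{u} R} (W : Submodule R (M × N)) :
    Submodule A ((rs A).obj M × (rs A).obj N) where
  carrier := (W : Set (M × N))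
  add_mem' := fun h h' => W.add_mem h h'
  zero_mem' := W.zero_mem
  smul_mem' := fun a x hx => W.smul_mem (algebraMap A R a) hx

variable {A} in
/-- A submodule over the algebra, seen over the base. -/
def subRes {M : ModuleCat.{u} R} (W : Submodule R M) : Submodule A ((rs A).obj M) where
  carrier := (W : Set M)
  add_mem' := fun h h' => W.add_mem h h'
  zero_mem' := W.zero_mem
  smul_mem' := fun a x hx => W.smul_mem (algebraMap A R a) hx

theorem finiteFree_rs [Module.Finite A R] [Module.Free A R] (M : ModuleCat.{u} R)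
    (h : Module.Finite R M ∧ Module.Free R M) : Module.Finite A ((rs A).obj M) ∧ Module.Free A ((rs A).obj M) := by
  letI : Module A M := Module.compHom M (algebraMap A R)
  haveI : IsScalarTower A R M := ⟨fun a r m => by
    show (a • r) • m = algebraMap A R a • r • m
    rw [Algebra.smul_def, mul_smul]⟩
  haveI := h.1
  haveI := h.2
  have h' : Module.Finite A M ∧ Module.Free A M := ⟨Module.Finite.trans R M, Module.Free.trans (S := R)⟩
  exact h' 

theorem exists_resolution_aux [Module.Finite A R] [Module.Free A R] (L : CochainComplex (ModuleCat.{u} R) ℤ)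
    [L.IsStrictlyLE 0] (hL : ∀ m, DRing.IsPseudoCoherent A m (DRing.toD (resA A L))) :
    ∃ E : CochainComplex (ModuleCat.{u} R) ℤ, (∀ i : ℤ, 0 < i → IsZero (E.X i)) ∧
      (∀ i, Module.Finite R (E.X i) ∧ Module.Free R (E.X i)) ∧
      Nonempty (DerivedCategory.Q.obj E ≅ DerivedCategory.Q.obj L) := by
  obtain ⟨ι, hι, hιf⟩ := isIso_liftExtend_id L
  let K := L.restriction embeddingDownNat
  let E := (res K).extend embeddingDownNat
  let Φ : E ⟶ L := HomologicalComplex.extendMap (resφ K) embeddingDownNat ≫ inv ι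
  let ρ : ∀ k : ℕ, E.X (-(k : ℤ)) ≅ (stg K k).F := fun k =>
    (res K).extendXIso embeddingDownNat (rfl : embeddingDownNat.f k = -(k : ℤ))
  have hΦ : ∀ (k : ℕ) (e : E.X (-(k : ℤ))), Φ.f (-(k : ℤ)) e = (stg K k).f ((ρ k).hom e) := by
    intro k e
    have h1 : Φ ≫ ι = HomologicalComplex.extendMap (resφ K) embeddingDownNat := by simp [Φ]
    have h2 := HomologicalComplex.congr_hom h1 (-(k : ℤ))
    have h3 := HomologicalComplex.extendMap_f (resφ K) embeddingDownNat
      (show embeddingDownNat.f k = -(k : ℤ) from rfl)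
    rw [HomologicalComplex.comp_f, hιf, h3, ← Category.assoc] at h2
    exact congrArg (fun f : E.X (-(k : ℤ)) ⟶ L.X (-(k : ℤ)) => f e)
      ((cancel_mono (K.extendXIso embeddingDownNat
        (rfl : embeddingDownNat.f k = -(k : ℤ))).inv).1 h2)
  have hd : ∀ (k : ℕ) (e : E.X (-((k + 1 : ℕ) : ℤ))),
      (ρ k).hom (E.d _ (-(k : ℤ)) e) = δ K k ((ρ (k + 1)).hom e) := by
    intro k e
    have h : E.d _ (-(k : ℤ)) ≫ (ρ k).hom = (ρ (k + 1)).hom ≫ δ K k := by
      rw [← res_d K k, ← Iso.eq_comp_inv, Category.assoc]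
      exact (res K).extend_d_eq embeddingDownNat (rfl : embeddingDownNat.f (k + 1) = _)
        (rfl : embeddingDownNat.f k = _)
    exact congrArg (fun f : E.X (-((k + 1 : ℕ) : ℤ)) ⟶ (stg K k).F => f e) h
  have hEpos : ∀ i : ℤ, 0 < i → IsZero (E.X i) := fun i hi =>
    HomologicalComplex.isZero_extend_X _ _ _ fun k => by simp; omega
  have hLpos : ∀ i : ℤ, 0 < i → IsZero (L.X i) := fun i hi => L.isZero_of_isStrictlyLE 0 i hi
  have hfreeR : ∀ i, Module.Finite R (E.X i) ∧ Module.Free R (E.X i) := by
    intro i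
    by_cases hi : i ≤ 0
    · obtain ⟨k, rfl⟩ : ∃ k : ℕ, -(k : ℤ) = i := ⟨(-i).toNat, by omega⟩
      haveI := (stg K k).free.1
      haveI := (stg K k).free.2
      exact ⟨Module.Finite.equiv (ρ k).toLinearEquiv.symm, Module.Free.of_equiv (ρ k).toLinearEquiv.symm⟩
    · haveI : Subsingleton (E.X i) := ModuleCat.subsingleton_of_isZero (hEpos i (by omega))
      exact ⟨inferInstance, Module.Free.of_subsingleton R _⟩
  let Er : DRing.Cx A := resA A E
  let Lr : DRing.Cx A := resA A L
  let Φr : Er ⟶ Lr := ((rs A).mapHomologicalComplex (ComplexShape.up ℤ)).map Φ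
  have hfree : DRing.TermwiseFiniteFree Er := fun i => finiteFree_rs A (E.X i) (hfreeR i)
  haveI : Lr.IsStrictlyLE 0 := (CochainComplex.isStrictlyLE_iff Lr 0).2 fun i hi =>
    (rs A).map_isZero (hLpos i hi)
  have hEposr : ∀ i : ℤ, 0 < i → IsZero (Er.X i) := fun i hi => (rs A).map_isZero (hEpos i hi)
  have hLposr : ∀ i : ℤ, 0 < i → IsZero (Lr.X i) := fun i hi => (rs A).map_isZero (hLpos i hi)
  have hΦr : ∀ (k : ℕ) (e : Er.X (-(k : ℤ))), Φr.f (-(k : ℤ)) e = (stg K k).f ((ρ k).hom e) := hΦ
  have hdr : ∀ (k : ℕ) (e : Er.X (-((k + 1 : ℕ) : ℤ))),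
      (ρ k).hom (Er.d _ (-(k : ℤ)) e) = δ K k ((ρ (k + 1)).hom e) := hd
  have hG : ∀ k, Good K k := by
    intro k
    induction k using Nat.strong_induction_on with
    | _ k ih =>
    match k with
    | 0 =>
      have : (DRing.toD Lr).IsLE 0 := inferInstanceAs ((DerivedCategory.Q.obj Lr).IsLE 0)
      have := finite_top (hL 0)
      have : Module.Finite A ((DerivedCategory.Q ⋙
          DerivedCategory.homologyFunctor (ModuleCat.{u} A) 0).obj Lr) := finite_top (hL 0)
      have : Module.Finite A (Lr.homology 0) := Module.Finite.equiv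
        ((DerivedCategory.homologyFunctorFactors (ModuleCat.{u} A) 0).app Lr).toLinearEquiv
      obtain ⟨T, hT⟩ := Module.Finite.fg_top (R := A) (M := Lr.homology 0)
      classical
      choose z hz using homologyπ_surjective Lr (0 : ℤ)
      let S₀ : Finset (L.X 0) := T.image fun t => Lr.iCycles 0 (z t)
      refine ⟨S₀, fun _ _ => trivial, fun x _ => ?_⟩
      obtain ⟨c, rfl⟩ : ∃ c, Lr.iCycles (0 : ℤ) c = (x : Lr.X 0) :=
        exists_cycle (K := Lr) (j := (0 : ℤ)) (k := 1) (by simp) x
          ((ModuleCat.subsingleton_of_isZero (hLposr 1 one_pos)).elim _ _)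
      have key : ∀ η, ∃ c', Lr.homologyπ 0 c' = η ∧ Lr.iCycles 0 c' ∈
          Submodule.span A ((T.image fun t => Lr.iCycles 0 (z t) : Finset _) : Set (Lr.X 0)) := by
        intro η
        have hη : η ∈ Submodule.span A (T : Set (Lr.homology 0)) := hT ▸ trivial
        induction hη using Submodule.span_induction with
        | mem t ht => exact ⟨z t, hz t, Submodule.subset_span (Finset.mem_image_of_mem _ ht)⟩
        | zero => exact ⟨0, map_zero _, by rw [map_zero]; exact zero_mem _⟩
        | add a b _ _ ha hb =>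
          obtain ⟨c₁, h₁, h₁'⟩ := ha
          obtain ⟨c₂, h₂, h₂'⟩ := hb
          exact ⟨c₁ + c₂, by rw [map_add, h₁, h₂], by rw [map_add]; exact add_mem h₁' h₂'⟩
        | smul a t _ ha =>
          obtain ⟨c₁, h₁, h₁'⟩ := ha
          exact ⟨a • c₁, by rw [map_smul, h₁], by rw [map_smul]; exact Submodule.smul_mem _ a h₁'⟩
      obtain ⟨c', hc', hmem⟩ := key (Lr.homologyπ 0 c)
      obtain ⟨y, hy⟩ := (homologyπ_eq_zero_iff (i := -((1 : ℕ) : ℤ)) (by simp) (c - c')).1
        (by rw [map_sub, hc', sub_self])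
      have hle : Submodule.span A ((T.image fun t => Lr.iCycles 0 (z t) : Finset _) : Set (Lr.X 0)) ≤
          @subRes A _ R _ _ (L.X 0) (Submodule.span R (SetLike.coe S₀)) :=
        Submodule.span_le.2 fun w hw => Submodule.subset_span (R := R) (M := L.X 0) (s := SetLike.coe S₀) hw
      refine Submodule.mem_sup.2 ⟨_, hle hmem, _, ⟨y, rfl⟩, ?_⟩
      change Lr.iCycles (0 : ℤ) c' + Lr.d _ (0 : ℤ) y = Lr.iCycles (0 : ℤ) c
      rw [hy, map_sub, add_sub_cancel]
    | k + 1 =>
      let S := sigmaGE Er (-(k : ℤ))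
      let φ : S ⟶ Lr := subι Er _ _ ≫ Φr
      have lift : ∀ i, -(k : ℤ) ≤ i → ∀ e : Er.X i,
          ∃ s : S.X i, (subι Er _ (geSub_stable Er (-(k : ℤ)))).f i s = e := by
        intro i hi e
        exact ⟨(sigmaGEXEquiv Er _ i hi).symm e, (sigmaGEXEquiv Er _ i hi).apply_symm_apply e⟩
      have sd : ∀ i j (s : S.X i), (subι Er _ (geSub_stable Er (-(k : ℤ)))).f j (S.d i j s) =
          Er.d i j ((subι Er _ (geSub_stable Er (-(k : ℤ)))).f i s) := fun i j s =>
        (congrArg (fun f : S.X i ⟶ Er.X j => f s)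
          ((subι Er _ (geSub_stable Er (-(k : ℤ)))).comm i j)).symm
      have sinj : ∀ i, Function.Injective ((subι Er _ (geSub_stable Er (-(k : ℤ)))).f i) :=
        fun i => Submodule.injective_subtype _
      -- surjectivity in degrees `≥ -k`
      have hsurj : ∀ i : ℤ, -(k : ℤ) ≤ i →
          Function.Surjective (HomologicalComplex.homologyMap φ i) := by
        intro i hi
        refine homologyMap_surjective φ (i := i - 1) (k := i + 1) (by simp) (by simp) fun x hx => ?_
        by_cases hi0 : 0 < i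
        · exact ⟨0, 0, map_zero _, (ModuleCat.subsingleton_of_isZero (hLposr i hi0)).elim _ _⟩
        obtain ⟨j, rfl⟩ : ∃ j : ℕ, -(j : ℤ) = i := ⟨(-i).toNat, by omega⟩
        rcases j with _ | j
        · obtain ⟨w, y, e⟩ := surj_zero K (ih 0 (by omega)) x
          obtain ⟨s, hs⟩ := lift _ hi ((ρ 0).inv w)
          refine ⟨s, (Lr.XIsoOfEq (show (-((1 : ℕ) : ℤ)) = -((0 : ℕ) : ℤ) - 1 by simp)).hom y, ?_, ?_⟩
          · apply sinj
            exact ((ModuleCat.subsingleton_of_isZero (hEposr _ (by simp))).elim _ _)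
          · change Φr.f _ ((subι Er _ (geSub_stable Er (-(k : ℤ)))).f _ s) + _ = x
            rw [hs, hΦr, ← ModuleCat.comp_apply _ (ρ 0).hom, Iso.inv_hom_id,
              ← ModuleCat.comp_apply, HomologicalComplex.XIsoOfEq_hom_comp_d]
            exact e
        · have hx' : K.d (j + 1) j x = 0 := by
            have := hx
            rwa [show -((j + 1 : ℕ) : ℤ) + 1 = -(j : ℤ) by push_cast; ring] at this
          obtain ⟨w, y, hw, e⟩ := surj_succ K j (ih (j + 1) (by omega)) x hx'
          obtain ⟨s, hs⟩ := lift _ hi ((ρ (j + 1)).inv w)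
          refine ⟨s, (Lr.XIsoOfEq (show (-((j + 2 : ℕ) : ℤ)) = -((j + 1 : ℕ) : ℤ) - 1 by
            push_cast; ring)).hom y, ?_, ?_⟩
          · rw [show -((j + 1 : ℕ) : ℤ) + 1 = -(j : ℤ) by push_cast; ring]
            apply sinj
            apply (ρ j).toLinearEquiv.injective
            change (ρ j).hom _ = (ρ j).hom _
            rw [sd, hs, hdr, map_zero, ← ModuleCat.comp_apply _ (ρ (j + 1)).hom, Iso.inv_hom_id,
              map_zero]
            exact hw
          · change Φr.f _ ((subι Er _ (geSub_stable Er (-(k : ℤ)))).f _ s) + _ = x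
            rw [hs, hΦr, ← ModuleCat.comp_apply _ (ρ (j + 1)).hom, Iso.inv_hom_id,
              ← ModuleCat.comp_apply, HomologicalComplex.XIsoOfEq_hom_comp_d]
            exact e
      have hinj : ∀ i : ℤ, -(k : ℤ) < i →
          Function.Injective (HomologicalComplex.homologyMap φ i) := by
        intro i hi
        refine homologyMap_injective φ (i := i - 1) (k := i + 1) (by simp) (by simp)
          fun w y hw hy => ?_
        by_cases hi0 : 0 < i
        · refine ⟨0, sinj i ?_⟩
          exact (ModuleCat.subsingleton_of_isZero (hEposr i hi0)).elim _ _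
        obtain ⟨j, rfl⟩ : ∃ j : ℕ, -(j : ℤ) = i := ⟨(-i).toNat, by omega⟩
        have hZ : (ρ j).hom ((subι Er _ (geSub_stable Er (-(k : ℤ)))).f _ w) ∈ (stg K j).Z := by
          rcases j with _ | j
          · trivial
          · rw [show -((j + 1 : ℕ) : ℤ) + 1 = -(j : ℤ) by push_cast; ring] at hw
            rw [mem_Z_succ, ← hdr, ← sd, hw, map_zero, map_zero]
        have hy' : (stg K j).f ((ρ j).hom ((subι Er _ (geSub_stable Er (-(k : ℤ)))).f _ w)) =
            K.d (j + 1) j ((Lr.XIsoOfEq (show -(j : ℤ) - 1 = -((j + 1 : ℕ) : ℤ) by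
              push_cast; ring)).hom y) := by
          rw [← hΦr]
          refine hy.symm.trans ?_
          change _ = Lr.d (-((j + 1 : ℕ) : ℤ)) (-(j : ℤ)) _
          rw [← ModuleCat.comp_apply, HomologicalComplex.XIsoOfEq_hom_comp_d]
        obtain ⟨v, hv⟩ := inj_stage K j (ih (j + 1) (by omega)) _ hZ _ hy'
        have hj : (-((j + 1 : ℕ) : ℤ)) = -(j : ℤ) - 1 := by push_cast; ring
        obtain ⟨s, hs⟩ := lift (-(j : ℤ) - 1) (by omega) ((Er.XIsoOfEq hj).hom ((ρ (j + 1)).inv v))
        refine ⟨s, sinj _ ((ρ j).toLinearEquiv.injective ?_)⟩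
        change (ρ j).hom _ = (ρ j).hom _
        rw [sd, hs, ← ModuleCat.comp_apply (Er.XIsoOfEq hj).hom, HomologicalComplex.XIsoOfEq_hom_comp_d,
          hdr, ← ModuleCat.comp_apply _ (ρ (j + 1)).hom, Iso.inv_hom_id]
        exact hv
      have hS : DRing.VanishesOutside S (-(k : ℤ)) 0 := by
        intro i hi
        rcases hi with hi | hi
        · exact S.isZero_of_isStrictlyGE (-(k : ℤ)) i hi
        · have := ModuleCat.subsingleton_of_isZero (hEposr i hi)
          exact (isZero_iff_subsingleton _).2 (sinj i).subsingleton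
      obtain ⟨g, h, hT⟩ := exists_cone_triangle φ
      have hle : (DRing.toD (CochainComplex.mappingCone φ)).IsLE (-((k + 1 : ℕ) : ℤ)) := by
        have := (cone_isLE_iff _ hT (-(k : ℤ))).2 ⟨fun i hi => ?_, ?_⟩
        · rwa [show -(k : ℤ) - 1 = -((k + 1 : ℕ) : ℤ) by push_cast; ring] at this
        · rw [ConcreteCategory.isIso_iff_bijective]
          exact (HH_bijective_iff φ i).2 ⟨hinj i hi, hsurj i (by omega)⟩
        · have he : (HH (-(k : ℤ))).map (DerivedCategory.Q.map φ) =
              (((DerivedCategory.homologyFunctorFactors (ModuleCat.{u} A) _).app S).hom ≫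
                HomologicalComplex.homologyMap φ _) ≫
              ((DerivedCategory.homologyFunctorFactors (ModuleCat.{u} A) _).app Lr).inv :=
            ((DerivedCategory.homologyFunctorFactors (ModuleCat.{u} A) _).app Lr).eq_comp_inv.2
              ((DerivedCategory.homologyFunctorFactors (ModuleCat.{u} A) _).hom.naturality φ)
          have := (ModuleCat.epi_iff_surjective _).2 (hsurj _ le_rfl)
          exact he.symm ▸ epi_comp' (epi_comp' inferInstance this) inferInstance
      have hpc : DRing.IsPseudoCoherent A (-((k + 1 : ℕ) : ℤ))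
          (DRing.toD (CochainComplex.mappingCone φ)) :=
        pc_triangle₃ _ hT (pc_toD hS (fun i => sigmaGE_mem modClass_finiteFree hfree _ i) _) (hL _)
      have := finite_top hpc
      have : Module.Finite A ((DerivedCategory.Q ⋙
          DerivedCategory.homologyFunctor (ModuleCat.{u} A) (-((k + 1 : ℕ) : ℤ))).obj
            (CochainComplex.mappingCone φ)) := finite_top hpc
      have : Module.Finite A ((CochainComplex.mappingCone φ).homology (-((k + 1 : ℕ) : ℤ))) :=
        Module.Finite.equiv ((DerivedCategory.homologyFunctorFactors (ModuleCat.{u} A) _).app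
          (CochainComplex.mappingCone φ)).toLinearEquiv
      have hq : -((k + 1 : ℕ) : ℤ) + 1 = -(k : ℤ) := by push_cast; ring
      obtain ⟨T, hT1, hT2⟩ := exists_finset_cone φ (-((k + 2 : ℕ) : ℤ)) (-((k + 1 : ℕ) : ℤ))
        (-(k : ℤ)) (-(k : ℤ) + 1) (by push_cast; ring) hq rfl
        (S.isZero_of_isStrictlyGE (-(k : ℤ)) _ (by omega))
      let τ : S.X (-(k : ℤ)) × Lr.X (-((k + 1 : ℕ) : ℤ)) →ₗ[A]
          (rs A).obj (stg K k).F × (rs A).obj (K.X (k + 1)) :=
        ((((rs A).map (ρ k).hom).hom ∘ₗ ((subι Er _ (geSub_stable Er (-(k : ℤ)))).f (-(k : ℤ))).hom).prodMap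
          (-LinearMap.id))
      classical
      let S₁ : Finset ((stg K k).F × K.X (k + 1)) := T.image τ
      refine ⟨S₁, fun p hp => ?_, fun p hp => ?_⟩
      · obtain ⟨s, hs, rfl⟩ := Finset.mem_image.1 (Finset.mem_coe.1 hp)
        obtain ⟨h1, h2⟩ := hT1 s hs
        refine ((stg K k).mem_P).2 ⟨?_, ?_⟩
        · rcases k with _ | k
          · trivial
          · rw [show -((k + 1 : ℕ) : ℤ) + 1 = -(k : ℤ) by push_cast; ring] at h1
            change (ρ (k + 1)).hom ((subι Er _ (geSub_stable Er (-((k + 1 : ℕ) : ℤ)))).f _ s.1) ∈ _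
            rw [mem_Z_succ, ← hdr, ← sd, h1, map_zero, map_zero]
        · have e := eq_neg_of_add_eq_zero_left h2
          change Φr.f _ _ = _ at e
          rw [hΦr] at e
          refine e.trans ?_
          change -(Lr.d _ _ s.2) = Lr.d _ _ (-s.2)
          rw [map_neg]
      · obtain ⟨hp1, hp2⟩ := ((stg K k).mem_P).1 hp
        obtain ⟨s, hs⟩ := lift (-(k : ℤ)) le_rfl ((ρ k).inv p.1)
        have hs' : (ρ k).hom ((subι Er _ (geSub_stable Er (-(k : ℤ)))).f _ s) = p.1 := by
          rw [hs, ← ModuleCat.comp_apply _ (ρ k).hom, Iso.inv_hom_id]; rfl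
        have hds : S.d (-(k : ℤ)) (-(k : ℤ) + 1) s = 0 := by
          apply sinj
          rcases k with _ | k
          · exact (ModuleCat.subsingleton_of_isZero (hEposr _ (by simp))).elim _ _
          · rw [show -((k + 1 : ℕ) : ℤ) + 1 = -(k : ℤ) by push_cast; ring]
            apply (ρ k).toLinearEquiv.injective
            change (ρ k).hom _ = (ρ k).hom _
            rw [sd, hdr, hs', map_zero, map_zero]
            exact hp1
        have hsum : φ.f (-(k : ℤ)) s + Lr.d (-((k + 1 : ℕ) : ℤ)) (-(k : ℤ)) (-p.2) = 0 := by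
          change Φr.f _ _ + _ = 0
          erw [hΦr, hs', hp2, map_neg]
          exact add_neg_cancel _
        have hmem := Submodule.mem_map_of_mem (f := τ) (hT2 s (-p.2) hds hsum)
        rw [Submodule.map_sup, Submodule.map_span, ← Finset.coe_image] at hmem
        have hτ : τ (s, -p.2) = p := Prod.ext hs' (neg_neg p.2)
        rw [hτ] at hmem
        refine SetLike.le_def.1 (sup_le (Submodule.span_le.2 fun w hw =>
          (le_sup_left (a := Submodule.span R ((S₁ : Finset ((stg K k).F × K.X (k + 1))) : Set ((stg K k).F × K.X (k + 1)))))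
            (Submodule.subset_span hw)) ?_ :
              _ ≤ prodRes (A := A) (Submodule.span R ((S₁ : Finset ((stg K k).F × K.X (k + 1))) : Set ((stg K k).F × K.X (k + 1))) ⊔ (stg K k).B)) hmem
        rintro _ ⟨_, ⟨y, rfl⟩, rfl⟩
        refine Submodule.mem_sup_right ⟨-y, Prod.ext ?_ ?_⟩
        · exact ((map_zero (ρ k).hom.hom).symm.trans (congrArg _ (map_zero _).symm))
        · change Lr.d _ _ (-y) = -(Lr.d _ _ y)
          rw [map_neg]
  have := quasiIso_resφ K hG
  have : QuasiIso (HomologicalComplex.extendMap (resφ K) embeddingDownNat) :=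
    (HomologicalComplex.quasiIso_extendMap_iff _ _).2 this
  have : QuasiIso Φ := inferInstance
  have : IsIso (DerivedCategory.Q.map Φ) :=
    (DerivedCategory.isIso_Q_map_iff_quasiIso (C := ModuleCat.{u} R) Φ).2 this
  exact ⟨E, fun i hi => hEpos i hi, hfreeR, ⟨asIso (DerivedCategory.Q.map Φ)⟩⟩

end Groth.Agent.DModR9
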